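import Cfsg.Agent.H125.Hall.Defs

/-!
# Frames: restriction and scalars (helper759, task 4208 of S2223)

* `Fr.restrict`, `FrSL.restrict`, `FrOrd.restrict` : the frames of a subgroup containing the Sylow 2-subgroup;
* `Fr.scalar` : an endomorphism commuting with `Q i` is scalar on `mv ρ (t i)`; `Fr.scalar0` : scalar on `V0`;
* `Fr.t_fix` : `t i` acts trivially on `mv ρ (t j)`, `i ≠ j`; `Fr.top_eq` : `V = ⨆ mv ρ (t i) ⊔ V0`;
* `Fr.comm_of_comm` : an endomorphism commuting with all `Q i` commutes with all `ρ x`, `x` commuting with all `t i`.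
-/

set_option autoImplicit false
set_option linter.unusedSectionVars false

namespace Cfsg.Agent.H759.Hall

open Subgroup Cfsg.Agent.Cit Cfsg.Agent.H125.Hall

section Restrict

variable {k : Type*} [Field k] {V : Type*} [AddCommGroup V] [Module k V] {A : Type*} [Group A]
  {ρ : A →* (V →ₗ[k] V)} {S : Sylow 2 A} {ι : Type*} {t : ι → A} {Q : ι → Subgroup A} {V0 : Submodule k V}

theorem isQ_subgroupOf {G : Type*} [Group G] {Q H : Subgroup G} (hQ : AutQuat.IsQ Q) (h : Q ≤ H) :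
    AutQuat.IsQ (Q.subgroupOf H) := by
  obtain ⟨n, ⟨e⟩⟩ := hQ
  exact ⟨n, ⟨(subgroupOfEquivOfLe h).trans e⟩⟩

variable (H : Subgroup A)

/-- the frame in the subgroup -/
def tH {H : Subgroup A} (hS : (S : Subgroup A) ≤ H) (ht : ∀ i, t i ∈ (S : Subgroup A)) (i : ι) : H := ⟨t i, hS (ht i)⟩

variable {H}

theorem Fr.tS (h : Fr ρ S t Q V0) (i : ι) : t i ∈ (S : Subgroup A) := h.QS i (h.mem i)

theorem Fr.restrict (h : Fr ρ S t Q V0) (hS : (S : Subgroup A) ≤ H) :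
    Fr (ρ.comp H.subtype) (S.subtype hS) (tH hS (Fr.tS h)) (fun i => (Q i).subgroupOf H) V0 where
  inj := h.inj.comp Subtype.val_injective
  two := h.two
  det x := h.det x
  isQ i := isQ_subgroupOf (h.isQ i) ((h.QS i).trans hS)
  mem i := h.mem i
  ord i := by
    rw [tH, Subgroup.orderOf_mk]
    exact h.ord i
  dim i := h.dim i
  QK i := by
    intro x hx
    obtain ⟨h1, h2⟩ := h.QK i (show (x : A) ∈ Q i from hx)
    exact ⟨Subtype.ext h1, h2⟩
  QS i := by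
    intro x hx
    rw [Sylow.coe_subtype]
    exact h.QS i (show (x : A) ∈ Q i from hx)
  comm i j hij x hx y hy := Subtype.ext (h.comm i j hij x hx y hy)
  perm s hs i := by
    rw [Sylow.coe_subtype] at hs
    obtain ⟨j, hj⟩ := h.perm s hs i
    exact ⟨j, Subtype.ext hj⟩
  V0_eq := h.V0_eq
  dim0 := h.dim0

theorem orb_iff (hS : (S : Subgroup A) ≤ H) (ht : ∀ i, t i ∈ (S : Subgroup A)) (i j : ι) :
    Orb ((S.subtype hS : Sylow 2 H) : Subgroup H) (tH hS ht) i j ↔ Orb (S : Subgroup A) t i j := by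
  constructor
  · rintro ⟨s, hs, h⟩
    rw [Sylow.coe_subtype] at hs
    exact ⟨s, hs, congrArg Subtype.val h⟩
  · rintro ⟨s, hs, h⟩
    refine ⟨⟨s, hS hs⟩, ?_, Subtype.ext h⟩
    rw [Sylow.coe_subtype]
    exact hs

theorem FrSL.restrict (h : FrSL ρ S t Q V0) (hS : (S : Subgroup A) ≤ H) :
    FrSL (ρ.comp H.subtype) (S.subtype hS) (tH hS (Fr.tS h.toFr)) (fun i => (Q i).subgroupOf H) V0 where
  toFr := Fr.restrict h.toFr hS
  tr i j l hij hjl := by
    rw [orb_iff] at hij hjl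
    obtain ⟨s, hs, h1, h2⟩ := h.tr i j l hij hjl
    refine ⟨⟨s, hS hs⟩, ?_, Subtype.ext h1, Subtype.ext h2⟩
    rw [Sylow.coe_subtype]
    exact hs
  dist i j hij := by
    simp only [orb_iff] at hij ⊢
    exact h.dist i j hij
  refl h0 i := by
    obtain ⟨y, hy, h1, h2, h3, h4, h5⟩ := h.refl h0 i
    refine ⟨⟨y, hS hy⟩, ?_, Subtype.ext h1, Subtype.ext h2, h3, h4, h5⟩
    rw [Sylow.coe_subtype]
    exact hy

theorem off_iff (hS : (S : Subgroup A) ≤ H) (ht : ∀ i, t i ∈ (S : Subgroup A)) (J : Set ι) (b : Bool) (s : H) :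
    Off (ρ.comp H.subtype) (S.subtype hS) (tH hS ht) V0 J b s ↔ Off ρ S t V0 J b (s : A) := by
  unfold Off
  rw [Sylow.coe_subtype]
  exact Iff.rfl

theorem FrOrd.restrict (h : FrOrd ρ S t V0) (ht : ∀ i, t i ∈ (S : Subgroup A)) (hS : (S : Subgroup A) ≤ H) :
    FrOrd (ρ.comp H.subtype) (S.subtype hS) (tH hS ht) V0 := by
  intro J b hJ hne m hm h3
  have h1 := h J b (fun s hs i hi j hj => hJ ⟨s, hS hs⟩ (by rw [Sylow.coe_subtype]; exact hs) i hi j
    (Subtype.ext hj)) hne m hm h3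
  have e1 : Nat.card {s : H // Off (ρ.comp H.subtype) (S.subtype hS) (tH hS ht) V0 J b s} =
      Nat.card {s : A // Off ρ S t V0 J b s} := by
    refine Nat.card_congr ⟨fun s => ⟨s.1.1, (off_iff hS ht J b s.1).1 s.2⟩,
      fun s => ⟨⟨s.1, hS s.2.1⟩, (off_iff hS ht J b ⟨s.1, hS s.2.1⟩).2 s.2⟩, fun _ => rfl, fun _ => rfl⟩
  have e2 : Nat.card {s : H // Off (ρ.comp H.subtype) (S.subtype hS) (tH hS ht) V0 J b s ∧
      ∃ c : k, (∀ i ∈ J, ∀ v ∈ mv (ρ.comp H.subtype) (tH hS ht i), (ρ.comp H.subtype) s v = c • v) ∧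
          (b = true → ∀ v ∈ V0, (ρ.comp H.subtype) s v = c • v)} =
      Nat.card {s : A // Off ρ S t V0 J b s ∧ ∃ c : k, (∀ i ∈ J, ∀ v ∈ mv ρ (t i), ρ s v = c • v) ∧
          (b = true → ∀ v ∈ V0, ρ s v = c • v)} := by
    refine Nat.card_congr ⟨fun s => ⟨s.1.1, (off_iff hS ht J b s.1).1 s.2.1, s.2.2⟩,
      fun s => ⟨⟨s.1, hS s.2.1.1⟩, (off_iff hS ht J b ⟨s.1, hS s.2.1.1⟩).2 s.2.1, s.2.2⟩, fun _ => rfl, fun _ => rfl⟩
  rw [e1, e2]
  exact h1

end Restrict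

section Scalar

variable {k : Type*} [Field k] {V : Type*} [AddCommGroup V] [Module k V] {A : Type*} [Group A]
  {ρ : A →* (V →ₗ[k] V)} {S : Sylow 2 A} {ι : Type*} {t : ι → A} {Q : ι → Subgroup A} {V0 : Submodule k V}

theorem mem_mv {g : A} {v : V} : v ∈ mv ρ g ↔ ∃ w, ρ g w - w = v := by
  unfold mv
  rw [LinearMap.mem_range]
  rfl

theorem neg_of_mem (h : Fr ρ S t Q V0) (i : ι) {v : V} (hv : v ∈ mv ρ (t i)) : ρ (t i) v = -v := by
  obtain ⟨w, rfl⟩ := mem_mv.1 hv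
  have h1 : t i * t i = 1 := by
    rw [← pow_two, ← h.ord i, pow_orderOf_eq_one]
  rw [map_sub, ← Module.End.mul_apply, ← map_mul, h1, map_one, Module.End.one_apply, neg_sub]

theorem mem_of_neg (h : Fr ρ S t Q V0) (i : ι) {v : V} (hv : ρ (t i) v = -v) : v ∈ mv ρ (t i) := by
  refine mem_mv.2 ⟨-(2 : k)⁻¹ • v, ?_⟩
  rw [map_smul, hv, neg_smul, neg_smul, smul_neg, neg_neg, sub_neg_eq_add, ← add_smul]
  rw [show ((2 : k)⁻¹ + 2⁻¹) = 1 by rw [← two_mul, mul_inv_cancel₀ h.two], one_smul]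

/-- elements of `Q i` -/
theorem exists_ab (h : Fr ρ S t Q V0) (i : ι) : ∃ a ∈ Q i, ∃ b ∈ Q i, a * a = t i ∧ a * b * a = b := by
  obtain ⟨a, ha, ha4⟩ := (h.isQ i).exists_four
  obtain ⟨b, hb, hba⟩ := (h.isQ i).exists_inverts a ha
  obtain ⟨z, hz, hzo, hz'⟩ := (h.isQ i).exists_inv
  refine ⟨a, ha, b, hb, ?_, ?_⟩
  · have h1 : orderOf (a * a) = 2 := by
      rw [← pow_two, orderOf_pow' a two_ne_zero, ha4]
      rfl
    rw [hz' _ ((Q i).mul_mem ha ha) h1, hz' _ (h.mem i) (h.ord i)]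
  · have h1 : b * a = a⁻¹ * b := by rw [← hba]; group
    rw [mul_assoc, h1]
    group

theorem mv_ne_bot (h : Fr ρ S t Q V0) (i : ι) : ∃ v ∈ mv ρ (t i), v ≠ 0 := by
  by_contra hcon
  push Not at hcon
  have h1 := h.dim i
  have h2 : mv ρ (t i) = ⊥ := by
    rw [eq_bot_iff]
    intro v hv
    exact (Submodule.mem_bot k).2 (hcon v hv)
  rw [h2, finrank_bot] at h1
  omega

/-- `g` maps `mv ρ (t i)` into itself if it commutes with `t i` -/
theorem map_mv {g : V →ₗ[k] V} {x : A} (hg : ∀ v, g (ρ x v) = ρ x (g v)) {v : V} (hv : v ∈ mv ρ x) : g v ∈ mv ρ x := by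
  obtain ⟨w, rfl⟩ := mem_mv.1 hv
  exact mem_mv.2 ⟨g w, by rw [map_sub, hg]⟩

/-- no eigenvector of `a` and `b` -/
theorem no_common (h : Fr ρ S t Q V0) (i : ι) {a b : A} (haa : a * a = t i) (hab : a * b * a = b) {u : V} (hu : u ∈ mv ρ (t i))
    (hu0 : u ≠ 0) {μ ν : k} (ha : ρ a u = μ • u) (hb : ρ b u = ν • u) : False := by
  have hν : ν ≠ 0 := by
    rintro rfl
    rw [zero_smul] at hb
    have h1 : ρ b⁻¹ (ρ b u) = u := by
      rw [← Module.End.mul_apply, ← map_mul, inv_mul_cancel, map_one, Module.End.one_apply]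
    rw [hb, map_zero] at h1
    exact hu0 h1.symm
  have h1 : ρ b u = (μ * ν * μ) • u := by
    conv_lhs => rw [← hab]
    rw [map_mul, map_mul, Module.End.mul_apply, Module.End.mul_apply, ha, map_smul, hb, map_smul, map_smul, ha,
      smul_smul, smul_smul]
  have h2 : μ * μ = 1 := by
    rw [hb] at h1
    have h3 : (ν - μ * ν * μ) • u = 0 := by rw [sub_smul, ← h1, sub_self]
    rcases smul_eq_zero.1 h3 with h4 | h4
    · have h5 : ν * (μ * μ - 1) = 0 := by linear_combination -h4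
      rcases mul_eq_zero.1 h5 with h6 | h6
      · exact absurd h6 hν
      · linear_combination h6
    · exact absurd h4 hu0
  have h3 : ρ (t i) u = (μ * μ) • u := by
    rw [← haa, map_mul, Module.End.mul_apply, ha, map_smul, ha, smul_smul]
  rw [neg_of_mem h i hu, h2, one_smul] at h3
  have h4 : (2 : k) • u = 0 := by
    rw [two_smul]
    nth_rewrite 1 [← h3]
    exact neg_add_cancel u
  rcases smul_eq_zero.1 h4 with h5 | h5
  · exact h.two h5
  · exact hu0 h5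

variable [FiniteDimensional k V] [IsAlgClosed k]

/-- **Schur's lemma for `Q i` on `mv ρ (t i)`.** -/
theorem Fr.scalar (h : Fr ρ S t Q V0) (i : ι) {g : V →ₗ[k] V} (hg : ∀ x ∈ Q i, ∀ v, g (ρ x v) = ρ x (g v)) :
    ∃ c : k, ∀ v ∈ mv ρ (t i), g v = c • v := by
  obtain ⟨a, ha, b, hb, haa, hab⟩ := exists_ab h i
  set U := mv ρ (t i) with hU
  have hgU : ∀ v ∈ U, g v ∈ U := fun v hv => map_mv (hg _ (h.mem i)) hv
  have hnt : Nontrivial U := by
    obtain ⟨v, hv, hv0⟩ := mv_ne_bot h i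
    exact ⟨⟨v, hv⟩, 0, fun h1 => hv0 (congrArg Subtype.val h1)⟩
  obtain ⟨c, hc⟩ := Module.End.exists_eigenvalue (g.restrict hgU)
  obtain ⟨u, hu⟩ := hc.exists_hasEigenvector
  have hu1 : g (u : V) = c • (u : V) := congrArg Subtype.val hu.apply_eq_smul
  have hu0 : (u : V) ≠ 0 := fun h1 => hu.2 (Subtype.ext h1)
  refine ⟨c, ?_⟩
  by_contra hcon
  push Not at hcon
  obtain ⟨w, hw, hwc⟩ := hcon
  -- the eigenspace
  let E : Submodule k U := Module.End.eigenspace (g.restrict hgU) c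
  have hE : Module.finrank k E ≤ 1 := by
    have h1 : E ≠ ⊤ := by
      intro h1
      apply hwc
      have h2 : (⟨w, hw⟩ : U) ∈ E := by rw [h1]; trivial
      exact congrArg Subtype.val (Module.End.mem_eigenspace_iff.1 h2)
    have h2 := Submodule.finrank_lt (s := E) h1
    have h3 : Module.finrank k U = 2 := h.dim i
    omega
  have huE : u ∈ E := Module.End.mem_eigenspace_iff.2 hu.apply_eq_smul
  have key : ∀ x ∈ Q i, ∃ μ : k, ρ x (u : V) = μ • (u : V) := by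
    intro x hx
    obtain ⟨e, he⟩ := finrank_le_one_iff.1 hE
    have h1 : ρ x (u : V) ∈ U := by
      obtain ⟨h2, -⟩ := h.QK i hx
      refine map_mv (fun v => ?_) u.2
      rw [← Module.End.mul_apply, ← map_mul, h2, map_mul, Module.End.mul_apply]
    have h2 : (⟨ρ x u, h1⟩ : U) ∈ E := by
      refine Module.End.mem_eigenspace_iff.2 (Subtype.ext ?_)
      show g (ρ x u) = c • ρ x u
      rw [hg x hx, hu1, map_smul]
    obtain ⟨α, hα⟩ := he ⟨u, huE⟩
    obtain ⟨β, hβ⟩ := he ⟨_, h2⟩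
    have hα' : α • ((e : U) : V) = u := congrArg (fun z : E => ((z : U) : V)) hα
    have hβ' : β • ((e : U) : V) = ρ x u := congrArg (fun z : E => ((z : U) : V)) hβ
    have hα0 : α ≠ 0 := by
      rintro rfl
      rw [zero_smul] at hα'
      exact hu0 hα'.symm
    refine ⟨β * α⁻¹, ?_⟩
    rw [← hβ', ← hα', smul_smul, mul_assoc, inv_mul_cancel₀ hα0, mul_one]
  obtain ⟨μ, hμ⟩ := key a ha
  obtain ⟨ν, hν⟩ := key b hb
  exact no_common h i haa hab u.2 hu0 hμ hν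

/-- an endomorphism commuting with all `t i` is scalar on `V0` -/
theorem Fr.scalar0 (h : Fr ρ S t Q V0) {g : V →ₗ[k] V} (hg : ∀ i v, g (ρ (t i) v) = ρ (t i) (g v)) :
    ∃ c : k, ∀ v ∈ V0, g v = c • v := by
  obtain ⟨e, he⟩ := finrank_le_one_iff.1 h.dim0
  have h1 : ∀ v ∈ V0, g v ∈ V0 := by
    intro v hv
    rw [h.V0_eq] at hv ⊢
    intro i
    rw [← hg, hv]
  obtain ⟨c, hc⟩ := he ⟨g e, h1 e e.2⟩
  refine ⟨c, fun v hv => ?_⟩
  obtain ⟨a, ha⟩ := he ⟨v, hv⟩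
  have ha' : a • (e : V) = v := congrArg Subtype.val ha
  have hc' : c • (e : V) = g e := congrArg Subtype.val hc
  rw [← ha', map_smul, ← hc', smul_smul, smul_smul, mul_comm]

/-- `t i` acts trivially on `mv ρ (t j)`. -/
theorem Fr.t_fix (h : Fr ρ S t Q V0) {i j : ι} (hij : i ≠ j) {v : V} (hv : v ∈ mv ρ (t j)) : ρ (t i) v = v := by
  have hcomm : ∀ x ∈ Q i, ∀ y ∈ Q j, ∀ w, ρ x (ρ y w) = ρ y (ρ x w) := by
    intro x hx y hy w
    rw [← Module.End.mul_apply, ← map_mul, h.comm i j hij x hx y hy, map_mul, Module.End.mul_apply]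
  obtain ⟨c, hc⟩ := Fr.scalar h j (g := ρ (t i)) (fun y hy w => hcomm _ (h.mem i) y hy w)
  obtain ⟨u, hu, hu0⟩ := mv_ne_bot h j
  have h1 : t i * t i = 1 := by rw [← pow_two, ← h.ord i, pow_orderOf_eq_one]
  have h2 : c * c = 1 := by
    have h3 : ρ (t i) (ρ (t i) u) = (c * c) • u := by
      rw [hc u hu, map_smul, hc u hu, smul_smul]
    rw [← Module.End.mul_apply, ← map_mul, h1, map_one, Module.End.one_apply] at h3
    have h4 : (1 - c * c) • u = 0 := by rw [sub_smul, one_smul, ← h3, sub_self]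
    rcases smul_eq_zero.1 h4 with h5 | h5
    · linear_combination -h5
    · exact absurd h5 hu0
  have h3 : (c - 1) * (c + 1) = 0 := by linear_combination h2
  rcases mul_eq_zero.1 h3 with h4 | h4
  · rw [hc v hv, show c = 1 by linear_combination h4, one_smul]
  · -- `U_j = U_i`
    exfalso
    have hc1 : c = -1 := by linear_combination h4
    have hle : mv ρ (t j) ≤ mv ρ (t i) := by
      intro w hw
      apply mem_of_neg h i
      rw [hc w hw, hc1, neg_smul, one_smul]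
    have heq : mv ρ (t j) = mv ρ (t i) := Submodule.eq_of_le_of_finrank_eq hle (by rw [h.dim, h.dim])
    obtain ⟨a, ha, b, hb, haa, hab⟩ := exists_ab h i
    obtain ⟨μ, hμ⟩ := Fr.scalar h j (g := ρ a) (fun y hy w => hcomm _ ha y hy w)
    obtain ⟨ν, hν⟩ := Fr.scalar h j (g := ρ b) (fun y hy w => hcomm _ hb y hy w)
    exact no_common h i haa hab (heq ▸ hu) hu0 (hμ u hu) (hν u hu)

/-- **The decomposition of `V`.** -/
theorem Fr.exists_decomp [Finite ι] (h : Fr ρ S t Q V0) (v : V) :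
    ∃ (u : ι → V) (_ : Fintype ι), (∀ i, u i ∈ mv ρ (t i)) ∧ v - ∑ i, u i ∈ V0 := by
  classical
  have := Fintype.ofFinite ι
  refine ⟨fun i => (2 : k)⁻¹ • (v - ρ (t i) v), this, fun i => ?_, ?_⟩
  · apply Submodule.smul_mem
    rw [← neg_sub]
    exact Submodule.neg_mem _ (mem_mv.2 ⟨v, rfl⟩)
  · rw [h.V0_eq]
    intro j
    have hmem : ∀ i, (2 : k)⁻¹ • (v - ρ (t i) v) ∈ mv ρ (t i) := by
      intro i
      apply Submodule.smul_mem
      rw [← neg_sub]
      exact Submodule.neg_mem _ (mem_mv.2 ⟨v, rfl⟩)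
    rw [map_sub, map_sum, ← Finset.add_sum_erase _ _ (Finset.mem_univ j), ← Finset.add_sum_erase _ _ (Finset.mem_univ j),
      neg_of_mem h j (hmem j)]
    have h1 : ∑ i ∈ Finset.univ.erase j, ρ (t j) ((2 : k)⁻¹ • (v - ρ (t i) v)) =
        ∑ i ∈ Finset.univ.erase j, (2 : k)⁻¹ • (v - ρ (t i) v) := by
      refine Finset.sum_congr rfl fun i hi => ?_
      exact Fr.t_fix h (Finset.ne_of_mem_erase hi).symm (hmem i)
    rw [h1]
    have h2 : ρ (t j) v + (2 : k)⁻¹ • (v - ρ (t j) v) = v - (2 : k)⁻¹ • (v - ρ (t j) v) := by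
      have h3 : (2 : k)⁻¹ • (v - ρ (t j) v) + (2 : k)⁻¹ • (v - ρ (t j) v) = v - ρ (t j) v := by
        rw [← add_smul, ← two_mul, mul_inv_cancel₀ h.two, one_smul]
      rw [eq_sub_iff_add_eq, add_assoc, h3]
      abel
    calc ρ (t j) v - (-((2 : k)⁻¹ • (v - ρ (t j) v)) + ∑ i ∈ Finset.univ.erase j, (2 : k)⁻¹ • (v - ρ (t i) v))
        = (ρ (t j) v + (2 : k)⁻¹ • (v - ρ (t j) v)) - ∑ i ∈ Finset.univ.erase j, (2 : k)⁻¹ • (v - ρ (t i) v) := by abel
      _ = _ := by rw [h2]; abel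

/-- **An endomorphism commuting with all `Q i` commutes with all `x` commuting with all `t i`.** -/
theorem Fr.comm_of_comm [Finite ι] (h : Fr ρ S t Q V0) {g : V →ₗ[k] V}
    (hg : ∀ i, ∀ x ∈ Q i, ∀ v, g (ρ x v) = ρ x (g v)) {f : V →ₗ[k] V} (hf : ∀ i v, f (ρ (t i) v) = ρ (t i) (f v)) (v : V) :
    g (f v) = f (g v) := by
  obtain ⟨u, _, hu, hv⟩ := Fr.exists_decomp h v
  have h1 : ∀ i, g (f (u i)) = f (g (u i)) := by
    intro i
    obtain ⟨c, hc⟩ := Fr.scalar h i (hg i)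
    rw [hc _ (hu i), map_smul, hc _ (map_mv (hf i) (hu i))]
  have h2 : g (f (v - ∑ i, u i)) = f (g (v - ∑ i, u i)) := by
    obtain ⟨c, hc⟩ := Fr.scalar0 h (fun i => hg i _ (h.mem i))
    have h3 : f (v - ∑ i, u i) ∈ V0 := by
      rw [h.V0_eq] at hv ⊢
      intro i
      rw [← hf, hv]
    rw [hc _ hv, map_smul, hc _ h3]
  have h3 : v = (v - ∑ i, u i) + ∑ i, u i := by abel
  rw [h3, map_add, map_add, map_add, map_add, h2, map_sum, map_sum, map_sum, map_sum, Finset.sum_congr rfl fun i _ => h1 i]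

end Scalar

end Cfsg.Agent.H759.Hall
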