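import Cfsg.Agent.H759.Hall.Frame

/-!
# S2223: `HP p G` from `SLData p G` (helper759, task 4208)

`hp_of_slData_of` : from the stubs G4, O1 and C1 + C2.
-/

set_option autoImplicit false

namespace Cfsg.Agent.H759.Hall

open Subgroup Cfsg.Agent.Cit Cfsg.Agent.H125.Hall

/-- the statement of G4 (`hp_of_fcent`) -/
def GFour : Prop :=
  ∀ {p : ℕ} {G : Type} [Group G] [Finite G] (S : Sylow 2 G),
    (∀ g ∈ normalizer ((S : Subgroup G) : Set G), Odd (orderOf g) → ∀ s ∈ (S : Subgroup G), g * s = s * g) →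
    (∀ H : Subgroup G, (S : Subgroup G) ≤ H → ¬ p ∣ Nat.card H → ∀ g : G, Odd (orderOf g) →
      (∀ s ∈ (S : Subgroup G), g * s = s * g) → FCent H g) → HP p G

/-- the statement of O1 (`Fr.odd_comm`) -/
def OOne : Prop :=
  ∀ {k : Type} [Field k] [IsAlgClosed k] {V : Type} [AddCommGroup V] [Module k V] [FiniteDimensional k V]
    {A : Type} [Group A] [Finite A] {ρ : A →* (V →ₗ[k] V)} {S : Sylow 2 A} {ι : Type} {t : ι → A} {Q : ι → Subgroup A}
    {V0 : Submodule k V}, Fr ρ S t Q V0 → (V0 ≠ ⊥ → ∀ i, ∃ y ∈ (S : Subgroup A), y * t i = t i * y ∧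
      y * y = 1 ∧ Module.finrank k (mv ρ y) = 2 ∧ V0 ≤ mv ρ y ∧ mv ρ y ≤ mv ρ (t i) ⊔ V0) →
    (Nat.card A : k) ≠ 0 → ∀ {r : ℕ}, r.Prime → r ≠ 2 → ∀ R : Subgroup A, R.Normal → IsPGroup r R →
      ∀ i, ∀ x ∈ R, t i * x = x * t i

/-- the statement of C1 and C2 together -/
def CBoth : Prop :=
  ∀ {k : Type} [Field k] [IsAlgClosed k] {V : Type} [AddCommGroup V] [Module k V] [FiniteDimensional k V]
    {A : Type} [Group A] [Finite A] {ρ : A →* (V →ₗ[k] V)} {S : Sylow 2 A} {ι : Type} [Finite ι] {t : ι → A}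
    {Q : ι → Subgroup A} {V0 : Submodule k V}, FrSL ρ S t Q V0 → FrOrd ρ S t V0 → (Nat.card A : k) ≠ 0 →
    (∀ (T : Type) [Group T] [Finite T] [IsSimpleGroup T], ¬ IsMulCommutative T → OddLieM T → ALSX T) →
    ∀ {L : Subgroup A}, Cfsg.IsComponent L → ∀ g : V →ₗ[k] V,
      (∀ s ∈ (S : Subgroup A), ∀ v, g (ρ s v) = ρ s (g v)) → ∀ x ∈ L, ∀ v, g (ρ x v) = ρ x (g v)

theorem hp_of_slData_of (hG4 : GFour) (hO1 : OOne) (hC : CBoth) {p : ℕ} (_hp : p.Prime) {G : Type} [Group G]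
    [Finite G] (h : SLData p G)
    (hals : ∀ (T : Type) [Group T] [Finite T] [IsSimpleGroup T], ¬ IsMulCommutative T → OddLieM T → ALSX T) :
    HP p G := by
  obtain ⟨k, _, _, _, V, _, _, _, ρ, S, ι, _, t, Q, V0, hF, hO, hN⟩ := h
  refine hG4 S hN fun H hS hpH g _ hg => ?_
  have hc : (Nat.card H : k) ≠ 0 := by
    intro h0
    exact hpH ((CharP.cast_eq_zero_iff k p _).1 h0)
  have hF' := FrSL.restrict hF hS
  have hO' := FrOrd.restrict hO (Fr.tS hF.toFr) hS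
  have hgS : ∀ s ∈ (S : Subgroup G), ∀ v, ρ g (ρ s v) = ρ s (ρ g v) := by
    intro s hs v
    rw [← Module.End.mul_apply, ← map_mul, hg s hs, map_mul, Module.End.mul_apply]
  have hinj : ∀ x : G, (∀ v, ρ g (ρ x v) = ρ x (ρ g v)) → g * x = x * g := by
    intro x hx
    apply hF.inj
    rw [map_mul, map_mul]
    exact LinearMap.ext hx
  constructor
  · intro r hr hr2 R hR hRr x hx
    apply hinj
    have h1 := hO1 hF'.toFr hF'.refl hc hr hr2 R hR hRr
    intro v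
    refine Fr.comm_of_comm hF.toFr (g := ρ g) (f := ρ (x : G)) (fun i y hy v => hgS y (hF.QS i hy) v) (fun i v => ?_) v
    have h2 : t i * (x : G) = x * t i := congrArg Subtype.val (h1 i x hx)
    rw [← Module.End.mul_apply, ← map_mul, ← h2, map_mul, Module.End.mul_apply]
  · intro L hL x hx
    apply hinj
    refine hC hF' hO' hc hals hL (ρ g) (fun s hs v => ?_) x hx
    rw [Sylow.coe_subtype] at hs
    exact hgS s hs v

end Cfsg.Agent.H759.Hall
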